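import Cfsg.Agent.StronglyEmbedded.Basic
import Mathlib.GroupTheory.Sylow
import Mathlib.GroupTheory.PGroup
import Mathlib.GroupTheory.QuotientGroup.Basic

/-!
An involution `z` fixing exactly one coset of a proper subgroup `H`, such that the product of `z`
with each commuting conjugate also fixes exactly one coset, is central in a Sylow 2-subgroup.
-/

set_option autoImplicit false

namespace CfsgLib.IsolatedPoint

universe u

variable {G : Type u} [Group G]

theorem mul_self_of_two {t : G} (ht : orderOf t = 2) : t * t = 1 :=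
  (StronglyEmbedded.orderOf_two_iff.mp ht).1

/-- A conjugate of an element. -/
def Conj' (z a : G) : Prop := ∃ g : G, a = g * z * g⁻¹

theorem conj'_iff {z a : G} : Conj' z a ↔ IsConj z a := by
  rw [isConj_iff]
  exact ⟨fun ⟨g, hg⟩ => ⟨g, hg.symm⟩, fun ⟨g, hg⟩ => ⟨g, hg.symm⟩⟩

theorem Conj'.refl (z : G) : Conj' z z := ⟨1, by simp⟩

theorem Conj'.conj {z a : G} (h : Conj' z a) (c : G) : Conj' z (c * a * c⁻¹) := by
  obtain ⟨g, rfl⟩ := h
  exact ⟨c * g, by group⟩

theorem Conj'.orderOf_eq {z a : G} (h : Conj' z a) : orderOf a = orderOf z := by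
  obtain ⟨g, rfl⟩ := h
  exact StronglyEmbedded.orderOf_conj g z

/-- `a` fixes the coset of `x`. -/
def Fix (H : Subgroup G) (a x : G) : Prop := x⁻¹ * a * x ∈ H

theorem Fix.conj {H : Subgroup G} {a x : G} (h : Fix H a x) (c : G) :
    Fix H (c * a * c⁻¹) (c * x) := by
  unfold Fix at *
  convert h using 1
  group

/-- `z` fixes only the coset `H`, and so do its products with commuting conjugates. -/
structure Isol (z : G) (H : Subgroup G) : Prop where
  two : orderOf z = 2
  proper : H ≠ ⊤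
  uniq : ∀ g : G, g⁻¹ * z * g ∈ H ↔ g ∈ H
  prod : ∀ t : G, Conj' z t → t ≠ z → Commute t z → ∀ g : G, g⁻¹ * (z * t) * g ∈ H → g ∈ H

section Basic

variable {z : G} {H : Subgroup G} (h : Isol z H)
include h

theorem Isol.mem : z ∈ H := by
  simpa using (h.uniq 1).mpr H.one_mem

theorem Isol.mem_of_commute {g : G} (hg : Commute g z) : g ∈ H := by
  refine (h.uniq g).mp ?_
  rw [show g⁻¹ * z * g = g⁻¹ * (z * g) by group, ← hg.eq, inv_mul_cancel_left]
  exact h.mem

theorem Isol.conj_two {a : G} (ha : Conj' z a) : orderOf a = 2 := ha.orderOf_eq.trans h.two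

theorem Isol.fix_conj_iff (g x : G) : Fix H (g * z * g⁻¹) x ↔ g⁻¹ * x ∈ H := by
  rw [Fix, show x⁻¹ * (g * z * g⁻¹) * x = (g⁻¹ * x)⁻¹ * z * (g⁻¹ * x) by group]
  exact h.uniq _

theorem Isol.fix_uniq {a x y : G} (ha : Conj' z a) (hx : Fix H a x) (hy : Fix H a y) :
    x⁻¹ * y ∈ H := by
  obtain ⟨g, rfl⟩ := ha
  rw [h.fix_conj_iff] at hx hy
  have := H.mul_mem (H.inv_mem hx) hy
  rwa [show (g⁻¹ * x)⁻¹ * (g⁻¹ * y) = x⁻¹ * y by group] at this

theorem Isol.fix_of_commute {a c x : G} (ha : Conj' z a) (hca : Commute c a) (hx : Fix H a x) :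
    Fix H c x := by
  obtain ⟨g, rfl⟩ := ha
  rw [h.fix_conj_iff] at hx
  have h1 : g⁻¹ * c * g ∈ H := h.mem_of_commute (by
    have := hca.map (MulAut.conj g⁻¹).toMonoidHom
    simpa [mul_assoc] using this)
  have := H.mul_mem (H.mul_mem (H.inv_mem hx) h1) hx
  rw [show (g⁻¹ * x)⁻¹ * (g⁻¹ * c * g) * (g⁻¹ * x) = x⁻¹ * c * x by group] at this
  exact this

theorem Isol.fix_prod {a b x y : G} (ha : Conj' z a) (hb : Conj' z b) (hab : Commute a b)
    (hne : a ≠ b) (hx : Fix H (a * b) x) (hy : Fix H (a * b) y) : x⁻¹ * y ∈ H := by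
  obtain ⟨g, rfl⟩ := ha
  set t := g⁻¹ * b * g with ht
  have htc : Conj' z t := by simpa [ht] using hb.conj g⁻¹
  have htne : t ≠ z := by
    intro he
    apply hne
    rw [← he, ht]
    group
  have htcomm : Commute t z := by
    have := (hab.map (MulAut.conj g⁻¹).toMonoidHom).symm
    simpa [ht, mul_assoc] using this
  have key : ∀ w, Fix H (g * z * g⁻¹ * b) w → g⁻¹ * w ∈ H := by
    intro w hw
    refine h.prod t htc htne htcomm _ ?_
    rw [Fix] at hw
    rw [ht]
    convert hw using 1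
    group
  have := H.mul_mem (H.inv_mem (key x hx)) (key y hy)
  rwa [show (g⁻¹ * x)⁻¹ * (g⁻¹ * y) = x⁻¹ * y by group] at this

end Basic

/-- The central involution of the dihedral group generated by two involutions with product of even
order. -/
theorem dihedral_center [Finite G] {a b : G} (ha : orderOf a = 2) (hb : orderOf b = 2)
    (hev : Even (orderOf (a * b))) :
    ∃ v : G, v = (a * b) ^ (orderOf (a * b) / 2) ∧ orderOf v = 2 ∧ Commute v a ∧ Commute v b ∧
      ((Even (orderOf (a * b) / 2) → IsConj a (a * v)) ∧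
        (Odd (orderOf (a * b) / 2) → IsConj b (a * v))) := by
  set m := orderOf (a * b) with hm
  have hpos : 0 < m := orderOf_pos _
  obtain ⟨k, hk⟩ := hev
  have hk2 : m / 2 = k := by omega
  have haa := mul_self_of_two ha
  have hbb := mul_self_of_two hb
  have hai : a⁻¹ = a := StronglyEmbedded.inv_eq_self ha
  have hbi : b⁻¹ = b := StronglyEmbedded.inv_eq_self hb
  have hinva : a * (a * b) * a⁻¹ = (a * b)⁻¹ := by
    rw [mul_inv_rev, hbi, hai, ← mul_assoc a a b, haa, one_mul]
  set v := (a * b) ^ k with hv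
  have hv2 : orderOf v = 2 := by
    rw [hv, orderOf_pow_of_dvd (by omega) ⟨2, by omega⟩, ← hm,
      show m = 2 * k by omega, Nat.mul_div_cancel _ (by omega)]
  have hvi : v⁻¹ = v := StronglyEmbedded.inv_eq_self hv2
  have hva : Commute v a := by
    have : a * v * a⁻¹ = v := by rw [hv, ← conj_pow, hinva, inv_pow, ← hv, hvi]
    exact ((StronglyEmbedded.commute_iff_conj_eq).mpr this).symm
  have hvab : Commute v (a * b) := (Commute.refl (a * b)).pow_left k
  have hvb : Commute v b := by
    have := hva.mul_right hvab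
    rwa [← mul_assoc, haa, one_mul] at this
  have hneg : ∀ i : ℕ, ((a * b) ^ i)⁻¹ * a = a * (a * b) ^ i := by
    intro i
    have : a * (a * b) ^ i * a⁻¹ = ((a * b) ^ i)⁻¹ := by rw [← conj_pow, hinva, inv_pow]
    rw [← this, hai, mul_assoc _ a a, haa, mul_one]
  refine ⟨v, by rw [hk2], hv2, hva, hvb, ?_, ?_⟩
  · rintro ⟨i, hi⟩
    rw [hk2] at hi
    refine isConj_iff.mpr ⟨((a * b) ^ i)⁻¹, ?_⟩
    rw [inv_inv, hneg, mul_assoc, ← pow_add, hv, hi]
  · rintro ⟨i, hi⟩
    rw [hk2] at hi
    refine isConj_iff.mpr ⟨((a * b) ^ i)⁻¹, ?_⟩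
    rw [inv_inv, hv, hi]
    calc ((a * b) ^ i)⁻¹ * b * (a * b) ^ i
        = ((a * b) ^ i)⁻¹ * (a * (a * b)) * (a * b) ^ i := by
          congr 2; rw [← mul_assoc, haa, one_mul]
      _ = (((a * b) ^ i)⁻¹ * a) * ((a * b) * (a * b) ^ i) := by simp only [mul_assoc]
      _ = a * ((a * b) ^ i * (a * b) ^ (i + 1)) := by rw [hneg, ← pow_succ', mul_assoc]
      _ = a * (a * b) ^ (2 * i + 1) := by
          rw [← pow_add, show i + (i + 1) = 2 * i + 1 by omega]

section Lemmas

variable [Finite G] {z : G} {H : Subgroup G} (h : Isol z H)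
include h

/-- Conjugates of `z` fixing different cosets have product of odd order. -/
theorem Isol.odd_of_points {a b x y : G} (ha : Conj' z a) (hb : Conj' z b) (hx : Fix H a x)
    (hy : Fix H b y) (hxy : x⁻¹ * y ∉ H) : Odd (orderOf (a * b)) := by
  by_contra hodd
  obtain ⟨v, -, hv2, hva, hvb, h1, h2⟩ :=
    dihedral_center (h.conj_two ha) (h.conj_two hb) (Nat.not_odd_iff_even.mp hodd)
  have hav : Conj' z (a * v) := by
    rw [conj'_iff]
    rcases Nat.even_or_odd (orderOf (a * b) / 2) with he | ho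
    · exact (conj'_iff.mp ha).trans (h1 he)
    · exact (conj'_iff.mp hb).trans (h2 ho)
  have hne : a ≠ a * v := fun he => StronglyEmbedded.ne_one_of_orderOf_two hv2
    (mul_left_cancel (he.symm.trans (mul_one a).symm))
  have hprod : a * (a * v) = v := by rw [← mul_assoc, mul_self_of_two (h.conj_two ha), one_mul]
  apply hxy
  refine h.fix_prod ha hav ((Commute.refl a).mul_right hva.symm) hne ?_ ?_
  · rw [hprod]; exact h.fix_of_commute ha hva hx
  · rw [hprod]; exact h.fix_of_commute hb hvb hy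

/-- Two conjugates of `z` are equal if their product is a 2-element of the core. -/
theorem Isol.eq_of_prod_mem_core {a b : G} (ha : Conj' z a) (hb : Conj' z b)
    (hab : a * b ∈ H.normalCore) (hp : ∃ n : ℕ, orderOf (a * b) = 2 ^ n) : a = b := by
  by_contra hne
  obtain ⟨n, hn⟩ := hp
  have hn0 : n ≠ 0 := by
    rintro rfl
    rw [pow_zero, orderOf_eq_one_iff] at hn
    exact hne (by rw [mul_eq_one_iff_eq_inv.mp hn, StronglyEmbedded.inv_eq_self (h.conj_two hb)])
  obtain ⟨v, hveq, hv2, hva, hvb, h1, h2⟩ :=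
    dihedral_center (h.conj_two ha) (h.conj_two hb)
      (by rw [hn]; exact Nat.even_pow.mpr ⟨even_two, hn0⟩)
  have hav : Conj' z (a * v) := by
    rw [conj'_iff]
    rcases Nat.even_or_odd (orderOf (a * b) / 2) with he | ho
    · exact (conj'_iff.mp ha).trans (h1 he)
    · exact (conj'_iff.mp hb).trans (h2 ho)
  have hne' : a ≠ a * v := fun he => StronglyEmbedded.ne_one_of_orderOf_two hv2
    (mul_left_cancel (he.symm.trans (mul_one a).symm))
  have hvN : v ∈ H.normalCore := hveq ▸ H.normalCore.pow_mem hab _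
  have hfix : ∀ x, Fix H (a * (a * v)) x := fun x => by
    rw [← mul_assoc, mul_self_of_two (h.conj_two ha), one_mul, Fix]
    simpa [mul_assoc] using hvN x⁻¹
  exact h.proper ((Subgroup.eq_top_iff' H).mpr fun g => by
    simpa using h.fix_prod ha hav ((Commute.refl a).mul_right hva.symm) hne'
      (hfix 1) (hfix g))

/-- An involution not conjugate to `z` moving a coset is completed by a commuting conjugate of `z`
to an involution fixing that coset. -/
theorem Isol.step {w y : G} (hw : orderOf w = 2) (hwz : ¬ Conj' z w) (hy : ¬ Fix H w y) :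
    ∃ v z3 : G, orderOf v = 2 ∧ Conj' z z3 ∧ v = w * z3 ∧ Commute w z3 ∧
      Commute v (y * z * y⁻¹) ∧ Commute v z3 := by
  set a := y * z * y⁻¹ with ha
  have hac : Conj' z a := ⟨y, rfl⟩
  have ha2 := h.conj_two hac
  have hwi : w⁻¹ = w := StronglyEmbedded.inv_eq_self hw
  have hfa : Fix H a y := by rw [ha, h.fix_conj_iff]; simp
  have hfa' : Fix H (w * a * w⁻¹) (w * y) := hfa.conj w
  have hr : Odd (orderOf (w * a * w⁻¹ * a)) :=
    h.odd_of_points (hac.conj w) hac hfa' hfa (by
      rw [show (w * y)⁻¹ * y = y⁻¹ * w⁻¹ * y by group, hwi]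
      exact hy)
  rw [show w * a * w⁻¹ * a = (w * a) ^ 2 by rw [hwi, sq]; group] at hr
  have hev : Even (orderOf (w * a)) := by
    by_contra hodd
    obtain ⟨x, -, hx⟩ := StronglyEmbedded.exists_zpowers_conj_of_odd hw ha2
      (Nat.not_even_iff_odd.mp hodd)
    apply hwz
    have : Conj' z (x⁻¹ * a * x⁻¹⁻¹) := hac.conj x⁻¹
    rwa [← hx, show x⁻¹ * (x * w * x⁻¹) * x⁻¹⁻¹ = w by group] at this
  obtain ⟨v, hveq, hv2, hvw, hva, -, h2⟩ := dihedral_center hw ha2 hev
  have hhalf : orderOf ((w * a) ^ 2) = orderOf (w * a) / 2 :=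
    orderOf_pow_of_dvd (by norm_num) (even_iff_two_dvd.mp hev)
  refine ⟨v, w * v, hv2, ?_, ?_, (Commute.refl w).mul_right hvw.symm, hva,
    hvw.mul_right (Commute.refl v)⟩
  · rw [conj'_iff]
    exact (conj'_iff.mp hac).trans (h2 (hhalf ▸ hr))
  · rw [← mul_assoc, mul_self_of_two hw, one_mul]

end Lemmas

/-- `z` is central in some Sylow 2-subgroup. -/
def IsTwoCentral (z : G) : Prop := ∃ P : Sylow 2 G, z ∈ P ∧ ∀ s ∈ P, s * z = z * s

theorem isTwoCentral_of_conj [Finite G] {z a : G} (ha : Conj' z a) (h : IsTwoCentral a) :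
    IsTwoCentral z := by
  obtain ⟨g, rfl⟩ := ha
  obtain ⟨P, hP, hc⟩ := h
  have hmem : ∀ s : G, s ∈ (g⁻¹ • P : Sylow 2 G) ↔ g * s * g⁻¹ ∈ P := by
    intro s
    show s ∈ ((g⁻¹ • P : Sylow 2 G) : Subgroup G) ↔ _
    rw [Sylow.coe_subgroup_smul, Subgroup.mem_pointwise_smul_iff_inv_smul_mem]
    simp [MulAut.smul_def]
    rfl
  refine ⟨g⁻¹ • P, (hmem z).mpr hP, fun s hs => ?_⟩
  have := hc _ ((hmem s).mp hs)
  rw [show g * s * g⁻¹ * (g * z * g⁻¹) = g * (s * z) * g⁻¹ by group,
    show g * z * g⁻¹ * (g * s * g⁻¹) = g * (z * s) * g⁻¹ by group] at this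
  exact mul_left_cancel (mul_right_cancel this)

theorem orderOf_eq_two_pow {P : Subgroup G} (hP : IsPGroup 2 P) {x : G} (hx : x ∈ P) :
    ∃ n : ℕ, orderOf x = 2 ^ n := by
  haveI : Fact (Nat.Prime 2) := ⟨Nat.prime_two⟩
  obtain ⟨n, hn⟩ := IsPGroup.iff_orderOf.mp hP ⟨x, hx⟩
  exact ⟨n, by rw [← hn, Subgroup.orderOf_mk]⟩

theorem inf_normal_eq_sylow [Finite G] (S : Sylow 2 G) (N : Subgroup G) [N.Normal]
    (Q : Sylow 2 ↥N) (hQ : (S : Subgroup G) ⊓ N ≤ (Q : Subgroup ↥N).map N.subtype) :
    (Q : Subgroup ↥N).map N.subtype = (S : Subgroup G) ⊓ N := by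
  haveI : Fact (Nat.Prime 2) := ⟨Nat.prime_two⟩
  obtain ⟨S', hS'⟩ := IsPGroup.exists_le_sylow (Q.2.map N.subtype)
  obtain ⟨g, rfl⟩ := MulAction.exists_smul_eq G S S'
  have hle : (Q : Subgroup ↥N).map N.subtype ≤
      ((S : Subgroup G) ⊓ N).map (MulAut.conj g).toMonoidHom := by
    intro x hx
    have h1 : x ∈ ((g • S : Sylow 2 G) : Subgroup G) := hS' hx
    rw [Sylow.coe_subgroup_smul, Subgroup.mem_pointwise_smul_iff_inv_smul_mem] at h1
    have h2 : x ∈ N := (Subgroup.map_subtype_le _) hx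
    refine ⟨g⁻¹ * x * g, ⟨?_, ?_⟩, by simp [mul_assoc]⟩
    · show g⁻¹ * x * g ∈ (S : Subgroup G)
      simpa [MulAut.smul_def, mul_assoc] using h1
    · simpa using ‹N.Normal›.conj_mem x h2 g⁻¹
  symm
  refine Subgroup.eq_of_le_of_card_ge hQ ?_
  refine (Subgroup.card_le_of_le hle).trans ?_
  rw [Subgroup.card_map_of_injective (MulAut.conj g).injective]

/-- No element of a Sylow 2-subgroup in the core can be centralized only inside `H`. -/
theorem Isol.not_mem_core [Finite G] {z : G} {H : Subgroup G} (h : Isol z H) (S : Sylow 2 G)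
    (hzS : z ∈ S) {u : G} (huS : u ∈ S) (hcent : ∀ c, Commute c u → c ∈ H) :
    u ∉ H.normalCore := by
  intro huN
  haveI : Fact (Nat.Prime 2) := ⟨Nat.prime_two⟩
  set N := H.normalCore with hN
  set R : Subgroup G := (S : Subgroup G) ⊓ N with hR
  have hRp : IsPGroup 2 (R.subgroupOf N) :=
    (S.2.to_le inf_le_left).of_equiv (Subgroup.subgroupOfEquivOfLe inf_le_right).symm
  obtain ⟨Q, hQ⟩ := hRp.exists_le_sylow
  have hQR : (Q : Subgroup ↥N).map N.subtype = R := inf_normal_eq_sylow S N Q (by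
    intro x hx
    exact ⟨⟨x, hx.2⟩, hQ hx, rfl⟩)
  have htop := Sylow.normalizer_sup_eq_top Q
  rw [hQR] at htop
  -- every conjugate of `z` normalizing `R` centralizes it
  have hzR : ∀ r ∈ R, Commute r z := by
    intro r hr
    have hc : r * z * r⁻¹ = z := by
      refine (h.eq_of_prod_mem_core (Conj'.refl z) ((Conj'.refl z).conj r) ?_ ?_).symm
      · have h1 := (Subgroup.normalCore_normal H).conj_mem r hr.2 z
        have h2 := N.mul_mem h1 (N.inv_mem hr.2)
        rw [show z * r * z⁻¹ * r⁻¹ = z * (r * z⁻¹ * r⁻¹) by group,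
          StronglyEmbedded.inv_eq_self h.two] at h2
        exact h2
      · exact orderOf_eq_two_pow S.2 ((S : Subgroup G).mul_mem hzS
          ((S : Subgroup G).mul_mem ((S : Subgroup G).mul_mem hr.1 hzS)
            ((S : Subgroup G).inv_mem hr.1)))
    exact StronglyEmbedded.commute_iff_conj_eq.mpr hc
  apply h.proper
  rw [eq_top_iff, ← htop, sup_le_iff]
  refine ⟨fun m hm => ?_, Subgroup.normalCore_le H⟩
  have hu' : m⁻¹ * u * m ∈ R := by
    simpa using (Subgroup.mem_normalizer_iff.mp ((Subgroup.normalizer _).inv_mem hm) u).mp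
      ⟨huS, huN⟩
  have hc1 : Commute (m * z * m⁻¹) u := by
    have h1 := ((hzR _ hu').symm.map (MulAut.conj m).toMonoidHom)
    simpa [mul_assoc] using h1
  have h2 := hcent _ hc1
  have h3 : Fix H (m * z * m⁻¹) 1 := by simpa [Fix] using h2
  rw [h.fix_conj_iff, mul_one] at h3
  simpa using H.inv_mem h3

theorem isTwoCentral_of_noncentral [Finite G] {z : G} {H : Subgroup G} (h : Isol z H)
    (S : Sylow 2 G) (hzS : z ∈ S) {u : G} (hu : orderOf u = 2) (huS : u ∈ S)
    (huc : ∀ s ∈ S, s * u = u * s) (hcent : ∀ c, Commute c u → c ∈ H) : IsTwoCentral z := by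
  haveI : Fact (Nat.Prime 2) := ⟨Nat.prime_two⟩
  by_contra hnot
  have huz : ¬ Conj' z u := fun hc => hnot (isTwoCentral_of_conj hc ⟨S, huS, huc⟩)
  -- conjugates of `z` in `C(u)` fix only `H`
  have hfix1 : ∀ d, Conj' z d → Commute d u → Fix H d 1 := fun d _ hc => by
    simpa [Fix] using hcent d hc
  have huN := h.not_mem_core S hzS huS hcent
  obtain ⟨y, hy⟩ : ∃ y, ¬ Fix H u y := by
    by_contra hall
    push Not at hall
    exact huN fun b => by simpa [Fix, mul_assoc] using hall b⁻¹
  obtain ⟨v, z3, hv2, hz3, hvu, huz3, hva, hvz3⟩ := h.step hu huz hy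
  have hy1 : (1 : G)⁻¹ * y ∉ H := by
    intro hy'
    apply hy
    have h1 : y ∈ H := by simpa using hy'
    exact H.mul_mem (H.mul_mem (H.inv_mem h1) (hcent u (Commute.refl u))) h1
  set a := y * z * y⁻¹ with ha
  have hac : Conj' z a := ⟨y, rfl⟩
  have hfa : Fix H a y := by rw [ha, h.fix_conj_iff]; simp
  have hfz3 : Fix H z3 1 := hfix1 z3 hz3 huz3.symm
  have hvz : ¬ Conj' z v := by
    intro hc
    exact hy1 (h.fix_uniq hc (h.fix_of_commute hz3 hvz3 hfz3) (h.fix_of_commute hac hva hfa))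
  by_cases hvN : v ∈ H.normalCore
  · -- move `z3` into `S` inside the centralizer of `u`
    set C := Subgroup.centralizer ({u} : Set G) with hC
    have hSC : (S : Subgroup G) ≤ C := fun s hs =>
      Subgroup.mem_centralizer_singleton_iff.mpr (huc s hs)
    have hz3C : z3 ∈ C := Subgroup.mem_centralizer_singleton_iff.mpr huz3.symm.eq
    have hz3p : IsPGroup 2 (Subgroup.zpowers (⟨z3, hz3C⟩ : C)) :=
      IsPGroup.of_card (n := 1) (by
        rw [Nat.card_zpowers, Subgroup.orderOf_mk, h.conj_two hz3, pow_one])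
    obtain ⟨P, hP⟩ := hz3p.exists_le_sylow
    obtain ⟨c, hc⟩ := MulAction.exists_smul_eq C P (S.subtype hSC)
    have hwS : (c : G) * z3 * (c : G)⁻¹ ∈ S := by
      have h1 : (c * ⟨z3, hz3C⟩ * c⁻¹ : C) ∈ (c • P : Sylow 2 C) := by
        show _ ∈ ((c • P : Sylow 2 C) : Subgroup C)
        rw [Sylow.coe_subgroup_smul]
        exact ⟨⟨z3, hz3C⟩, hP (Subgroup.mem_zpowers _), rfl⟩
      rw [hc] at h1
      exact h1
    have hcu : Commute (c : G) u := Subgroup.mem_centralizer_singleton_iff.mp c.2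
    set w := (c : G) * z3 * (c : G)⁻¹ with hw
    have hwc : Conj' z w := hz3.conj _
    have huw : u * w ∈ H.normalCore := by
      have h1 := (Subgroup.normalCore_normal H).conj_mem v hvN (c : G)
      rw [hvu] at h1
      rwa [show (c : G) * (u * z3) * (c : G)⁻¹ = ((c : G) * u * (c : G)⁻¹) * w by rw [hw]; group,
        StronglyEmbedded.commute_iff_conj_eq.mp hcu] at h1
    refine hnot (isTwoCentral_of_conj hwc ⟨S, hwS, fun s hs => ?_⟩)
    have heq : w = s * w * s⁻¹ := by
      refine h.eq_of_prod_mem_core hwc (hwc.conj s) ?_ ?_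
      · have h1 := (Subgroup.normalCore_normal H).conj_mem _ huw s
        rw [show s * (u * w) * s⁻¹ = (s * u * s⁻¹) * (s * w * s⁻¹) by group,
          StronglyEmbedded.commute_iff_conj_eq.mp (huc s hs)] at h1
        have h2 := H.normalCore.mul_mem (H.normalCore.inv_mem huw) h1
        rwa [show (u * w)⁻¹ * (u * (s * w * s⁻¹)) = w⁻¹ * (s * w * s⁻¹) by group,
          StronglyEmbedded.inv_eq_self (h.conj_two hwc)] at h2
      · exact orderOf_eq_two_pow S.2 ((S : Subgroup G).mul_mem hwS
          ((S : Subgroup G).mul_mem ((S : Subgroup G).mul_mem hs hwS)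
            ((S : Subgroup G).inv_mem hs)))
    exact (StronglyEmbedded.commute_iff_conj_eq.mpr heq.symm)
  · obtain ⟨y', hy'⟩ : ∃ y', ¬ Fix H v y' := by
      by_contra hall
      push Not at hall
      exact hvN fun b => by simpa [Fix, mul_assoc] using hall b⁻¹
    obtain ⟨v', z4, hv'2, hz4, hv'v, hvz4, hv'a', hv'z4⟩ := h.step hv2 hvz hy'
    set a' := y' * z * y'⁻¹ with ha'
    have hac' : Conj' z a' := ⟨y', rfl⟩
    have hfa' : Fix H a' y' := by rw [ha', h.fix_conj_iff]; simp
    obtain ⟨p, hp⟩ := hz4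
    have hz4' : Conj' z z4 := ⟨p, hp⟩
    have hfz4 : Fix H z4 p := by rw [hp, h.fix_conj_iff]; simp
    -- conjugacy of `z3` and `z4` inside `C(v)`
    have hconj : ∀ b b' x x', Conj' z b → Conj' z b' → Fix H b x → Fix H b' x' → x⁻¹ * x' ∉ H →
        Commute v b → Commute v b' → ∃ c : G, Commute v c ∧ c * b * c⁻¹ = b' := by
      intro b b' x x' hb hb' hbx hbx' hne hvb hvb'
      obtain ⟨c, hc, hcb⟩ := StronglyEmbedded.exists_zpowers_conj_of_odd (h.conj_two hb)
        (h.conj_two hb') (h.odd_of_points hb hb' hbx hbx' hne)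
      obtain ⟨k, rfl⟩ := hc
      exact ⟨_, (hvb.mul_right hvb').zpow_right k, hcb⟩
    obtain ⟨c, hcv, hcz⟩ : ∃ c : G, Commute v c ∧ c * z3 * c⁻¹ = z4 := by
      by_cases hp1 : p ∈ H
      · obtain ⟨c1, hc1, hc1'⟩ := hconj z3 a 1 y hz3 hac hfz3 hfa hy1 hvz3 hva
        obtain ⟨c2, hc2, hc2'⟩ := hconj a z4 y p hac hz4' hfa hfz4 (by
          intro hyp
          apply hy1
          have h1 := H.mul_mem hp1 (H.inv_mem hyp)
          rwa [show p * (y⁻¹ * p)⁻¹ = 1⁻¹ * y by group] at h1) hva hvz4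
        refine ⟨c2 * c1, hc2.mul_right hc1, ?_⟩
        rw [← hc2', ← hc1']
        group
      · exact hconj z3 z4 1 p hz3 hz4' hfz3 hfz4 (by simpa using hp1) hvz3 hvz4
    have hv'eq : v' = c * u * c⁻¹ := by
      rw [hv'v, ← hcz]
      calc v * (c * z3 * c⁻¹) = (v * c) * z3 * c⁻¹ := by group
        _ = (c * v) * z3 * c⁻¹ := by rw [hcv.eq]
        _ = c * (u * (z3 * z3)) * c⁻¹ := by rw [hvu]; group
        _ = c * u * c⁻¹ := by rw [mul_self_of_two (h.conj_two hz3), mul_one]
    have hback : ∀ d, Conj' z d → Commute v' d → Fix H d c := by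
      intro d hd hcd
      have h1 : Commute (c⁻¹ * d * c) u := by
        have h2 := (hcd.symm.map (MulAut.conj c⁻¹).toMonoidHom)
        rw [hv'eq] at h2
        simpa [mul_assoc] using h2
      have h3 := hfix1 _ (by simpa using hd.conj c⁻¹) h1
      simpa [Fix, mul_assoc] using h3
    have h4 := h.fix_uniq hac' (hback a' hac' hv'a') hfa'
    have h5 : Fix H z4 y' := by
      have h6 := hback z4 hz4' hv'z4
      unfold Fix at h6 ⊢
      have h7 := H.mul_mem (H.mul_mem (H.inv_mem h4) h6) h4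
      rwa [show (c⁻¹ * y')⁻¹ * (c⁻¹ * z4 * c) * (c⁻¹ * y') = y'⁻¹ * z4 * y' by group] at h7
    exact hy' (h.fix_of_commute hz4' hvz4 h5)

theorem isTwoCentral_aux : ∀ (n : ℕ) (G : Type u) [Group G] [Finite G] (z : G) (H : Subgroup G),
    Nat.card G = n → Isol z H → IsTwoCentral z := by
  intro n
  induction n using Nat.strong_induction_on with
  | _ n ih =>
  intro G _ _ z H hn h
  haveI : Fact (Nat.Prime 2) := ⟨Nat.prime_two⟩
  have hzp : IsPGroup 2 (Subgroup.zpowers z) :=
    IsPGroup.of_card (n := 1) (by rw [Nat.card_zpowers, h.two, pow_one])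
  obtain ⟨S, hS⟩ := hzp.exists_le_sylow
  have hzS : z ∈ S := hS (Subgroup.mem_zpowers z)
  haveI : Nontrivial (S : Subgroup G) :=
    ⟨⟨⟨z, hzS⟩, 1, fun he => StronglyEmbedded.ne_one_of_orderOf_two h.two
      (congrArg Subtype.val he)⟩⟩
  haveI : Nontrivial (Subgroup.center (S : Subgroup G)) := S.2.center_nontrivial
  obtain ⟨k, hk, hcard⟩ := ((S.2.to_subgroup (Subgroup.center (S : Subgroup G))).nontrivial_iff_card).mp
    inferInstance
  obtain ⟨u0, hu0⟩ := exists_prime_orderOf_dvd_card' (G := Subgroup.center (S : Subgroup G)) 2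
    (hcard ▸ dvd_pow_self 2 hk.ne')
  set u : G := ((u0 : (S : Subgroup G)) : G) with hu
  have hu2 : orderOf u = 2 := by rw [hu, Subgroup.orderOf_coe, Subgroup.orderOf_coe, hu0]
  have huS : u ∈ S := (u0 : (S : Subgroup G)).2
  have huc : ∀ s ∈ S, s * u = u * s := fun s hs =>
    congrArg Subtype.val (Subgroup.mem_center_iff.mp u0.2 ⟨s, hs⟩)
  by_cases hcent : ∀ c, Commute c u → c ∈ H
  · exact isTwoCentral_of_noncentral h S hzS hu2 huS huc hcent
  push Not at hcent
  obtain ⟨c0, hc0, hc0H⟩ := hcent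
  set C := Subgroup.centralizer ({u} : Set G) with hC
  by_cases hCtop : C = ⊤
  · -- `u` is central: pass to the quotient
    by_contra hnot
    have hucent : ∀ g : G, Commute g u := fun g =>
      Subgroup.mem_centralizer_singleton_iff.mp (hC ▸ hCtop ▸ Subgroup.mem_top g)
    set U := Subgroup.zpowers u with hU
    haveI : U.Normal := ⟨fun x hx g => by
      obtain ⟨i, rfl⟩ := hx
      simp only
      rw [((hucent g).zpow_right i).eq, mul_inv_cancel_right]
      exact Subgroup.zpow_mem_zpowers u i⟩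
    have hUmem : ∀ x ∈ U, x = 1 ∨ x = u := by
      intro x hx
      obtain ⟨i, rfl⟩ := hx
      simp only
      rcases Int.even_or_odd i with ⟨j, rfl⟩ | ⟨j, rfl⟩
      · left
        rw [← two_mul, zpow_mul, zpow_two, mul_self_of_two hu2, one_zpow]
      · right
        rw [zpow_add, zpow_mul, zpow_two, mul_self_of_two hu2, one_zpow, one_mul, zpow_one]
    have huH : u ∈ H := h.mem_of_commute (hucent z).symm
    have hUH : U ≤ H := Subgroup.zpowers_le.mpr huH
    have huz : ¬ Conj' z u := fun hc => hnot (isTwoCentral_of_conj hc ⟨S, huS, huc⟩)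
    have huN : u ∈ H.normalCore := fun b => by
      rw [StronglyEmbedded.commute_iff_conj_eq.mp (hucent b)]
      exact huH
    have hzu : ¬ Conj' z (z * u) := by
      intro hc
      have heq := h.eq_of_prod_mem_core (Conj'.refl z) hc
        (by rwa [← mul_assoc, mul_self_of_two h.two, one_mul])
        ⟨1, by rw [← mul_assoc, mul_self_of_two h.two, one_mul, hu2, pow_one]⟩
      exact StronglyEmbedded.ne_one_of_orderOf_two hu2
        (mul_left_cancel (heq.symm.trans (mul_one z).symm))
    let π := QuotientGroup.mk' U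
    have hπ : Function.Surjective π := QuotientGroup.mk'_surjective U
    have hker : π.ker = U := QuotientGroup.ker_mk' U
    have hmem : ∀ x : G, π x ∈ H.map π ↔ x ∈ H := fun x => by
      rw [← Subgroup.mem_comap, Subgroup.comap_map_eq, hker, sup_eq_left.mpr hUH]
    have hzz : ∀ x y : G, π x = π y → x⁻¹ * y = 1 ∨ x⁻¹ * y = u := fun x y hxy =>
      hUmem _ (QuotientGroup.eq.mp hxy)
    have h' : Isol (π z) (H.map π) := by
      refine ⟨?_, ?_, ?_, ?_⟩
      · refine StronglyEmbedded.orderOf_two_iff.mpr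
          ⟨by rw [← map_mul, mul_self_of_two h.two, map_one], fun he => ?_⟩
        rcases hUmem z ((QuotientGroup.eq_one_iff z).mp he) with he | he
        · exact StronglyEmbedded.ne_one_of_orderOf_two h.two he
        · exact huz (he ▸ Conj'.refl z)
      · intro he
        exact h.proper ((Subgroup.eq_top_iff' H).mpr fun x =>
          (hmem x).mp (he ▸ Subgroup.mem_top _))
      · intro g'
        obtain ⟨g, rfl⟩ := hπ g'
        rw [← map_inv, ← map_mul, ← map_mul, hmem, hmem]
        exact h.uniq g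
      · intro t' ht' hne hcomm g'
        obtain ⟨y', rfl⟩ := ht'
        obtain ⟨y, rfl⟩ := hπ y'
        obtain ⟨g, rfl⟩ := hπ g'
        set t := y * z * y⁻¹ with ht
        have htc : Conj' z t := ⟨y, rfl⟩
        have hπt : π y * π z * (π y)⁻¹ = π t := by rw [ht, map_mul, map_mul, map_inv]
        rw [hπt] at hne hcomm ⊢
        have hcm : Commute t z := by
          rcases hzz (z * t) (t * z) (by rw [map_mul, map_mul]; exact hcomm.eq.symm) with he | he
          · exact (inv_mul_eq_one.mp he).symm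
          · exfalso
            apply hzu
            refine ⟨t⁻¹, ?_⟩
            rw [inv_inv]
            have h1 : t * z = z * t * u := inv_mul_eq_iff_eq_mul.mp he
            calc z * u = u * z := (hucent z).eq
              _ = (t⁻¹ * t) * (u * z) := by group
              _ = t⁻¹ * ((t * z) * u) := by rw [(hucent z).eq.symm]; group
              _ = t⁻¹ * (z * t * (u * u)) := by rw [h1]; group
              _ = t⁻¹ * z * t := by rw [mul_self_of_two hu2, mul_one, mul_assoc]
        intro hg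
        rw [← map_inv, ← map_mul, ← map_mul, ← map_mul, hmem] at hg
        rw [hmem]
        exact h.prod t htc (fun he => hne (by rw [he])) hcm g hg
    have hlt : Nat.card (G ⧸ U) < n := by
      rw [← hn, Subgroup.card_eq_card_quotient_mul_card_subgroup U, hU, Nat.card_zpowers, hu2]
      have : 0 < Nat.card (G ⧸ Subgroup.zpowers u) := Nat.card_pos
      omega
    obtain ⟨P', hzP', hcP'⟩ := ih _ hlt _ (π z) _ rfl h'
    have hkp : IsPGroup 2 π.ker := by
      rw [hker]
      exact IsPGroup.of_card (n := 1) (by rw [hU, Nat.card_zpowers, hu2, pow_one])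
    refine hnot ⟨P'.comapOfKerIsPGroup π hkp (fun x _ => hπ x), hzP', fun s hs => ?_⟩
    have h1 : π (s * z) = π (z * s) := by rw [map_mul, map_mul]; exact hcP' _ hs
    rcases hzz (z * s) (s * z) h1.symm with he | he
    · exact (inv_mul_eq_one.mp he).symm
    · exfalso
      apply hzu
      refine ⟨s, ?_⟩
      have h2 : s * z = z * s * u := inv_mul_eq_iff_eq_mul.mp he
      rw [h2, mul_assoc z s u, (hucent s).eq]
      group
  · -- pass to the centralizer of `u`
    have hzC : z ∈ C := Subgroup.mem_centralizer_singleton_iff.mpr (huc z hzS)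
    have h' : Isol (⟨z, hzC⟩ : C) (H.subgroupOf C) := by
      refine ⟨by rw [Subgroup.orderOf_mk, h.two], ?_, ?_, ?_⟩
      · intro he
        exact hc0H (Subgroup.subgroupOf_eq_top.mp he
          (Subgroup.mem_centralizer_singleton_iff.mpr hc0.eq))
      · intro g
        exact h.uniq (g : G)
      · rintro t ⟨g0, rfl⟩ hne hcomm g hg
        exact h.prod _ ⟨(g0 : G), rfl⟩ (fun he => hne (Subtype.ext he))
          (congrArg Subtype.val hcomm.eq) (g : G) hg
    have hlt : Nat.card C < n := by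
      rw [← hn]
      exact (Subgroup.card_le_card_group C).lt_of_ne fun he =>
        hCtop (Subgroup.eq_top_of_card_eq C he)
    obtain ⟨R, hzR, hcR⟩ := ih _ hlt _ _ _ rfl h'
    have hSC : (S : Subgroup G) ≤ C := fun s hs =>
      Subgroup.mem_centralizer_singleton_iff.mpr (huc s hs)
    have hcardR : Nat.card ((R : Subgroup C).map C.subtype) = Nat.card (S : Subgroup G) := by
      rw [Subgroup.card_map_of_injective C.subtype_injective]
      have h1 : Nat.card R = Nat.card (S.subtype hSC : Subgroup C) :=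
        Sylow.card_eq_multiplicity R |>.trans (Sylow.card_eq_multiplicity _).symm
      rw [h1, Sylow.coe_subtype]
      exact Nat.card_congr (Subgroup.subgroupOfEquivOfLe hSC).toEquiv
    refine ⟨Sylow.ofCard _ (hcardR.trans (Sylow.card_eq_multiplicity S)), ?_, ?_⟩
    · exact ⟨⟨z, hzC⟩, hzR, rfl⟩
    · rintro s ⟨s', hs', rfl⟩
      exact congrArg Subtype.val (hcR s' hs')

/-- An involution with the isolated point property for itself and its commuting products is
central in a Sylow 2-subgroup. -/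
theorem Isol.isTwoCentral [Finite G] {z : G} {H : Subgroup G} (h : Isol z H) : IsTwoCentral z :=
  isTwoCentral_aux _ G z H rfl h

end CfsgLib.IsolatedPoint
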